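import Mathlib
import Groth.Prelude.Def_FSch3
import Groth.Agent.Lib.Helper1.LocalCrit
import Groth.Agent.Lib.Helper2.CompleteNoeth

/-! helper7: the map of adic completions induced by a flat map of Noetherian rings is flat
(local criterion of flatness at the maximal ideals of the completed target). -/

set_option linter.style.haveILetI false
set_option linter.unusedVariables false
set_option linter.unusedSectionVars false
set_option linter.overlappingInstances false

open TensorProduct IsLocalRing

namespace Groth.Agent.Helper7.ComplFlat2

universe u

section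

variable {B C : Type u} [CommRing B] [CommRing C] (I : Ideal B) (K : Ideal C) (g : B →+* C)
  (h : I.map g ≤ K)

/-- The completion map on constants. -/
theorem complMap_of (x : B) :
    FSch.complMap I K g h (algebraMap B (AdicCompletion I B) x) =
      algebraMap C (AdicCompletion K C) (g x) := by
  refine AdicCompletion.ext_evalₐ fun n => ?_
  have h1 : AdicCompletion.evalₐ K n
      (FSch.complMap I K g h (algebraMap B (AdicCompletion I B) x)) =
      ((Ideal.quotientMap (K ^ n) g (FSch.pow_le_comap_pow_of_map_le I K g h n)).comp
        (AdicCompletion.evalₐ I n).toRingHom) (algebraMap B (AdicCompletion I B) x) := by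
    unfold FSch.complMap
    generalize_proofs
    refine AdicCompletion.evalₐ_liftRingHom K _ ?_ n _
    all_goals assumption
  rw [h1, RingHom.comp_apply]
  have h2 : (AdicCompletion.evalₐ I n).toRingHom (algebraMap B (AdicCompletion I B) x) =
      Ideal.Quotient.mk (I ^ n) x := by
    show AdicCompletion.evalₐ I n (algebraMap B (AdicCompletion I B) x) = _
    rw [AlgHom.commutes]
    rfl
  have h3 : AdicCompletion.evalₐ K n (algebraMap C (AdicCompletion K C) (g x)) =
      Ideal.Quotient.mk (K ^ n) (g x) := by
    rw [AlgHom.commutes]
    rfl
  rw [h2, h3, Ideal.quotientMap_mk]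

end

section Loc

open Groth.Agent.Helper1

/-- Local criterion: a Noetherian algebra `S` over `R`, flat over a base `B` such that `B`
surjects onto `R` modulo `I`, is flat over `R` locally at primes containing `I`. -/
theorem flat_localization_of_surjective_mod
    {B R S : Type u} [CommRing B] [CommRing R] [CommRing S] [Algebra B R] [Algebra R S]
    [Algebra B S] [IsScalarTower B R S] [IsNoetherianRing R] [IsNoetherianRing S]
    [Module.Flat B S]
    (I : Ideal B) (hsurj : ∀ x : R, ∃ b : B, x - algebraMap B R b ∈ I.map (algebraMap B R))
    (𝔫 : Ideal S) [𝔫.IsPrime] (h𝔫 : I.map (algebraMap B S) ≤ 𝔫) :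
    Module.Flat R (Localization.AtPrime 𝔫) := by
  set p : Ideal R := 𝔫.comap (algebraMap R S) with hp
  haveI : p.IsPrime := Ideal.IsPrime.comap _
  set 𝔮 : Ideal B := p.comap (algebraMap B R) with h𝔮
  have hIp : I.map (algebraMap B R) ≤ p := by
    rw [Ideal.map_le_iff_le_comap]
    intro b hb
    show algebraMap R S (algebraMap B R b) ∈ 𝔫
    rw [← IsScalarTower.algebraMap_apply]
    exact h𝔫 (Ideal.mem_map_of_mem _ hb)
  have hpeq : 𝔮.map (algebraMap B R) = p := by
    apply le_antisymm
    · exact Ideal.map_comap_le
    · intro x hx
      obtain ⟨b, hb⟩ := hsurj x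
      have hbq : b ∈ 𝔮 := by
        show algebraMap B R b ∈ p
        have : algebraMap B R b = x - (x - algebraMap B R b) := by ring
        rw [this]
        exact p.sub_mem hx (hIp hb)
      have hI𝔮 : I ≤ 𝔮 := Ideal.map_le_iff_le_comap.mp hIp
      have : x = (x - algebraMap B R b) + algebraMap B R b := by ring
      rw [this]
      exact Ideal.add_mem _ (Ideal.map_mono hI𝔮 hb) (Ideal.mem_map_of_mem _ hbq)
  letI algRpSn : Algebra (Localization.AtPrime p) (Localization.AtPrime 𝔫) :=
    (Localization.localRingHom p 𝔫 (algebraMap R S) rfl).toAlgebra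
  haveI : IsScalarTower R (Localization.AtPrime p) (Localization.AtPrime 𝔫) :=
    IsScalarTower.of_algebraMap_eq (fun x => by
      show algebraMap S (Localization.AtPrime 𝔫) (algebraMap R S x) =
        Localization.localRingHom p 𝔫 (algebraMap R S) rfl
          (algebraMap R (Localization.AtPrime p) x)
      rw [Localization.localRingHom_to_map])
  haveI : IsLocalHom (algebraMap (Localization.AtPrime p) (Localization.AtPrime 𝔫)) :=
    Localization.isLocalHom_localRingHom p 𝔫 (algebraMap R S) rfl
  haveI : Module.Flat B (Localization.AtPrime 𝔫) := Module.Flat.trans B S (Localization.AtPrime 𝔫)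
  have h1 : Function.Injective (𝔮.subtype.rTensor (Localization.AtPrime 𝔫)) :=
    Module.Flat.rTensor_preserves_injective_linearMap _ (Submodule.subtype_injective _)
  have h2 := LocalCrit.rTensor_map_subtype_injective (S := R) 𝔮 (Localization.AtPrime 𝔫) h1
  have h2' : ∀ J : Ideal R, J = 𝔮.map (algebraMap B R) →
      Function.Injective (J.subtype.rTensor (Localization.AtPrime 𝔫)) := by
    rintro _ rfl
    exact h2
  have h3 := LocalCrit.rTensor_map_subtype_injective (S := Localization.AtPrime p) p
    (Localization.AtPrime 𝔫) (h2' p hpeq.symm)
  have h3' : ∀ J : Ideal (Localization.AtPrime p), J = p.map (algebraMap R _) →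
      Function.Injective (J.subtype.rTensor (Localization.AtPrime 𝔫)) := by
    rintro _ rfl
    exact h3
  have h4 := h3' (maximalIdeal (Localization.AtPrime p))
    (Localization.AtPrime.map_eq_maximalIdeal).symm
  letI : Field (Localization.AtPrime p ⧸ maximalIdeal (Localization.AtPrime p)) :=
    Ideal.Quotient.field _
  have hI : (maximalIdeal (Localization.AtPrime p)).map
      (algebraMap (Localization.AtPrime p) (Localization.AtPrime 𝔫)) ≠ ⊤ :=
    LocalCrit.map_ne_top_of_isLocalHom _ (maximalIdeal.isMaximal _).ne_top
  haveI : Module.Flat (Localization.AtPrime p) (Localization.AtPrime 𝔫) :=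
    LocalCrit.flat_of_rTensor_injective_of_flat_quotient
      (R := Localization.AtPrime p) (S := Localization.AtPrime 𝔫)
      (M := Localization.AtPrime 𝔫) (maximalIdeal (Localization.AtPrime p)) hI h4
  exact Module.Flat.trans R (Localization.AtPrime p) (Localization.AtPrime 𝔫)

end Loc

section Main

variable (B C : Type u) [CommRing B] [CommRing C] [IsNoetherianRing B] [IsNoetherianRing C]
  [Algebra B C] [Module.Flat B C] (I : Ideal B) (K : Ideal C)

/-- The completion of a flat map of Noetherian rings is flat. -/
theorem flat_complMap (hK : I.map (algebraMap B C) = K) (h : I.map (algebraMap B C) ≤ K) :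
    (FSch.complMap I K (algebraMap B C) h).Flat := by
  have hI : I.FG := IsNoetherian.noetherian I
  have hKfg : K.FG := IsNoetherian.noetherian K
  letI algRS : Algebra (AdicCompletion I B) (AdicCompletion K C) :=
    (FSch.complMap I K (algebraMap B C) h).toAlgebra
  haveI hst : IsScalarTower B (AdicCompletion I B) (AdicCompletion K C) := by
    refine IsScalarTower.of_algebraMap_eq (fun b => ?_)
    rw [IsScalarTower.algebraMap_apply B C (AdicCompletion K C)]
    exact (complMap_of I K (algebraMap B C) h b).symm
  haveI : IsNoetherianRing (AdicCompletion I B) :=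
    Groth.Agent.Helper2.CompleteNoeth.isNoetherianRing_adicCompletion B I hI
  haveI : IsNoetherianRing (AdicCompletion K C) :=
    Groth.Agent.Helper2.CompleteNoeth.isNoetherianRing_adicCompletion C K hKfg
  haveI hcomplete := AdicCompletion.isAdicComplete_self K hKfg
  have hJac : K.map (algebraMap C (AdicCompletion K C)) ≤
      (⊥ : Ideal (AdicCompletion K C)).jacobson := IsAdicComplete.le_jacobson_bot _
  haveI hflatBC : Module.Flat B (AdicCompletion K C) :=
    Module.Flat.trans B C (AdicCompletion K C)
  have hsurj : ∀ x : AdicCompletion I B, ∃ b : B,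
      x - algebraMap B (AdicCompletion I B) b ∈ I.map (algebraMap B (AdicCompletion I B)) := by
    intro x
    obtain ⟨b, hb⟩ := Ideal.Quotient.mk_surjective (AdicCompletion.evalOneₐ I x)
    refine ⟨b, ?_⟩
    rw [← AdicCompletion.ker_evalOneₐ_eq_map I hI, RingHom.mem_ker, map_sub, sub_eq_zero]
    show AdicCompletion.evalOneₐ I x =
      AdicCompletion.evalOneₐ I (algebraMap B (AdicCompletion I B) b)
    rw [← hb]
    exact ((AdicCompletion.evalOneₐ I).commutes b).symm
  show (algebraMap (AdicCompletion I B) (AdicCompletion K C)).Flat
  rw [RingHom.flat_algebraMap_iff]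
  refine Module.flat_of_isLocalized_maximal (AdicCompletion K C) (AdicCompletion K C)
    (fun P _ => Localization.AtPrime P) (fun P _ => Algebra.linearMap _ _) ?_
  intro 𝔫 h𝔫
  haveI : 𝔫.IsPrime := h𝔫.isPrime
  refine flat_localization_of_surjective_mod I hsurj 𝔫 ?_
  rw [IsScalarTower.algebraMap_eq B C (AdicCompletion K C), ← Ideal.map_map, hK]
  refine hJac.trans ?_
  exact sInf_le ⟨bot_le, h𝔫⟩

end Main

section Loc2

/-- The canonical map between completed rings of fractions is flat. -/
theorem main (A : Type u) [CommRing A] [IsNoetherianRing A] (J : Ideal A) (S' S : Submonoid A)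
    (hS : S' ≤ S) (g : Localization S' →+* Localization S)
    (hg : g.comp (algebraMap A (Localization S')) = algebraMap A (Localization S))
    (hJ : (J.map (algebraMap A (Localization S'))).map g ≤ J.map (algebraMap A (Localization S))) :
    (FSch.complMap (J.map (algebraMap A (Localization S')))
      (J.map (algebraMap A (Localization S))) g hJ).Flat := by
  letI algLL : Algebra (Localization S') (Localization S) := g.toAlgebra
  haveI : IsScalarTower A (Localization S') (Localization S) :=
    IsScalarTower.of_algebraMap_eq (fun a => (RingHom.congr_fun hg a).symm)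
  haveI : IsLocalization (S.map (algebraMap A (Localization S'))) (Localization S) :=
    IsLocalization.isLocalization_of_submonoid_le (Localization S') (Localization S) S' S hS
  haveI : Module.Flat (Localization S') (Localization S) :=
    IsLocalization.flat _ (S.map (algebraMap A (Localization S')))
  have hK : (J.map (algebraMap A (Localization S'))).map
      (algebraMap (Localization S') (Localization S)) = J.map (algebraMap A (Localization S)) := by
    rw [Ideal.map_map, ← IsScalarTower.algebraMap_eq]
  exact flat_complMap (Localization S') (Localization S) _ _ hK hJ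

end Loc2

end Groth.Agent.Helper7.ComplFlat2
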